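import Cfsg.Agent.H393.Iso.Base
import Cfsg.Agent.TypeM.FactsMcL
import Cfsg.Agent.TypeM.FactsLy

/-!
# `McL`, `Ly`: a prime not adjacent to 2 (helper393)
-/

set_option autoImplicit false

namespace Cfsg.Agent.H393.Iso

open Subgroup Cfsg Equiv Cfsg.Agent.SporRec.TwoAn Cfsg.Agent.TypeM.Two

theorem na_of_mt {G : Type*} [Group G] [Finite G] {n p : ℕ} (hp : p.Prime) (hp2 : p ≠ 2) (hn : n < p)
    (L : MT n G) : NA p G := by
  refine NA.of_rep (fun s => s = L.t) (fun t ht ht1 => ?_) ?_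
  · obtain ⟨g, hg⟩ := L.one t ht ht1
    exact ⟨g, _, rfl, hg⟩
  · rintro s rfl x hx hxs
    have hfp : Fact p.Prime := ⟨hp⟩
    let x' : centralizer ({L.t} : Set G) := ⟨x, mem_cent.2 hxs⟩
    have hx' : orderOf x' = p := by
      rw [← hx]
      exact (orderOf_injective (centralizer ({L.t} : Set G)).subtype Subtype.coe_injective x').symm
    have h1 : L.K.π x' ^ p = 1 := by rw [← map_pow, ← hx', pow_orderOf_eq_one, map_one]
    have h2 : orderOf (L.K.π x') ∣ p := orderOf_dvd_of_pow_eq_one h1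
    rcases (Nat.dvd_prime hp).1 h2 with h3 | h3
    · rw [orderOf_eq_one_iff] at h3
      rcases (L.K.ker x').1 h3 with h4 | h4
      · rw [h4, orderOf_one] at hx'
        exact hp.one_lt.ne hx'
      · have h5 : x' ^ 2 = 1 := by rw [pow_two, h4]; exact L.K.z_mul_z
        have h6 := orderOf_dvd_of_pow_eq_one h5
        rw [hx'] at h6
        exact hp2 ((Nat.prime_dvd_prime_iff_eq hp Nat.prime_two).1 h6)
    · have h4 : p ∣ Nat.card (Perm (Fin n)) := by
        rw [← h3]
        exact orderOf_dvd_natCard _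
      rw [Nat.card_eq_fintype_card, Fintype.card_perm, Fintype.card_fin] at h4
      have h5 := (hp.dvd_factorial).1 h4
      omega

theorem na_mcl {G : Type*} [Group G] [Finite G] (h : Spor.IsoMcL G) : NA 11 G := by
  obtain ⟨-, -, -, ⟨L⟩⟩ := Cfsg.Agent.TypeM.FactsMcL.facts h
  exact na_of_mt (by norm_num) (by norm_num) (by norm_num) L

theorem na_ly {G : Type*} [Group G] [Finite G] (h : Spor.IsoLy G) : NA 67 G := by
  obtain ⟨-, -, -, ⟨L⟩⟩ := Cfsg.Agent.TypeM.FactsLy.facts h
  exact na_of_mt (by norm_num) (by norm_num) (by norm_num) L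

end Cfsg.Agent.H393.Iso
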