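import Cfsg.Agent.H393.Iso.Base
import Cfsg.Agent.CTwoTab.BInst
import Cfsg.Agent.BabyComp.BaseTwo

/-!
# The Baby Monster: a prime not adjacent to 2 (helper393)
-/

set_option autoImplicit false
set_option maxRecDepth 100000

open Subgroup

namespace Cfsg.Agent.H393.Iso

/-! ### lifts along double covers -/

section lifts

variable {B X : Type*} [Group B] [Group X] {q : B →* X} {τ : B} (hq : Cfsg.Agent.R01.Lifts.Ext q τ) {p : ℕ}
  (hp : p.Prime) (hp2 : p ≠ 2)

include hq hp hp2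

/-- lift of an element of order `p` along a double cover -/
theorem exists_lift {x : X} (hx : orderOf x = p) : ∃ b : B, q b = x ∧ orderOf b = p := by
  obtain ⟨b, hb⟩ := hq.surj x
  have h1 : q (b ^ p) = 1 := by rw [map_pow, hb, ← hx, pow_orderOf_eq_one]
  have hne : ∀ c : B, q c = x → c ≠ 1 := by
    rintro c hc rfl
    rw [map_one] at hc
    rw [← hc, orderOf_one] at hx
    exact hp.one_lt.ne hx
  rcases (hq.ker _).1 h1 with h2 | h2
  · exact ⟨b, hb, orderOf_eq_prime (hp := ⟨hp⟩) h2 (hne b hb)⟩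
  · refine ⟨b * τ, by rw [map_mul, hq.mapz, mul_one, hb], orderOf_eq_prime (hp := ⟨hp⟩) ?_ (hne _ ?_)⟩
    · have hc : Commute b τ := hq.comm b
      rw [hc.mul_pow, h2]
      obtain ⟨k, hk⟩ := hp.odd_of_ne_two hp2
      rw [hk, pow_succ, pow_mul, pow_two, hq.zz, one_pow, one_mul, hq.zz]
    · rw [map_mul, hq.mapz, mul_one, hb]

/-- commuting lifts -/
theorem lift_comm {b : B} (hb : orderOf b = p) {k : B} (h : q b * q k = q k * q b) : b * k = k * b := by
  have h1 : q (b * k * b⁻¹) = q k := by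
    rw [map_mul, map_mul, h, map_inv, mul_inv_cancel_right]
  rcases hq.map_eq.1 h1 with h3 | h3
  · calc b * k = b * k * b⁻¹ * b := by group
      _ = k * b := by rw [h3]
  · exfalso
    obtain ⟨m, hm⟩ := hp.odd_of_ne_two hp2
    have hτ : b * τ * b⁻¹ = τ := by rw [hq.comm b, mul_inv_cancel_right]
    -- conjugation by `b ^ 2` fixes `k`
    have h4 : b ^ 2 * k * (b ^ 2)⁻¹ = k := by
      calc b ^ 2 * k * (b ^ 2)⁻¹ = b * (b * k * b⁻¹) * b⁻¹ := by rw [pow_two, mul_inv_rev]; group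
        _ = b * (k * τ) * b⁻¹ := by rw [h3]
        _ = (b * k * b⁻¹) * (b * τ * b⁻¹) := by group
        _ = k * τ * τ := by rw [h3, hτ]
        _ = k := by rw [mul_assoc, hq.zz, mul_one]
    have h5 : Commute (b ^ 2) k := by
      show b ^ 2 * k = k * b ^ 2
      calc b ^ 2 * k = b ^ 2 * k * (b ^ 2)⁻¹ * b ^ 2 := by group
        _ = _ := by rw [h4]
    have h6 : Commute ((b ^ 2) ^ (m + 1)) k := h5.pow_left _
    have h7 : (b ^ 2) ^ (m + 1) = b := by
      rw [← pow_mul]
      have : 2 * (m + 1) = p + 1 := by omega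
      rw [this, pow_succ, ← hb, pow_orderOf_eq_one, one_mul]
    rw [h7] at h6
    have h8 : k = k * τ := by
      rw [← h3, h6.eq, mul_inv_cancel_right]
    exact hq.zne (mul_left_cancel (a := k) (by rw [mul_one]; exact h8.symm))

end lifts

theorem orderOf_conj' {X : Type*} [Group X] (g x : X) : orderOf (g⁻¹ * x * g) = orderOf x := by
  have := (orderOf_injective (MulAut.conj g⁻¹).toMonoidHom (MulAut.conj g⁻¹).injective x)
  rw [← this]
  show _ = orderOf (g⁻¹ * x * g⁻¹⁻¹)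
  rw [inv_inv]

/-- transport of a centralizer order -/
theorem false_of_isConj {X : Type*} [Group X] [Finite X] {p : ℕ} {t : X}
    (ht : ¬ p ∣ Nat.card (centralizer ({t} : Set X))) {x d : X} (hx : orderOf x = p) (hd : IsConj t d)
    (hxd : x * d = d * x) : False := by
  obtain ⟨g, rfl⟩ := isConj_iff.1 hd
  refine not_comm_of_card ht (x := g⁻¹ * x * g) ((orderOf_conj' g x).trans hx) ?_
  calc g⁻¹ * x * g * t = g⁻¹ * (x * (g * t * g⁻¹)) * g := by group
    _ = g⁻¹ * ((g * t * g⁻¹) * x) * g := by rw [hxd]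
    _ = _ := by group

open Cfsg Cfsg.Lie Cfsg.Agent.Bimonster Cfsg.Agent.BabyU Cfsg.Agent.TwoESix.Cover
open Cfsg.Agent.MonsterX.KSide Cfsg.Agent.MonsterX.KLift Cfsg.Agent.MonsterX.KModel
open Cfsg.Agent.MonsterX.Model Cfsg.Agent.MonsterX.MainPack Cfsg.Agent.MonsterX.MainSimple
open Cfsg.Agent.MonsterX.MainBasic Cfsg.Agent.MonsterU.Assembly Cfsg.Agent.MonsterN Cfsg.Agent.MonsterN.Lit
open Cfsg.Agent.MonsterN.LitInst Cfsg.Agent.MonsterU.Lam2 Cfsg.Agent.MonsterU.TwoCls
open Cfsg.Agent.BabyComp Cfsg.Agent.BabyComp.Main Cfsg.Agent.BabyComp.BaseTwo Cfsg.Agent.R01.Lifts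

theorem card_cz {V : Type} [AddCommGroup V] [Module ℚ V] {D : MData V} {K₀ : Type} [Group K₀] (A : All D K₀) :
    Nat.card (Subgroup.centralizer ({zG A.hG} : Set D.G)) = 2 ^ 25 * 4157776806543360000 := by
  rw [← card_C A.hG]
  refine Nat.card_congr (Equiv.ofBijective
    (fun x => (⟨(x : D.G), (Cfsg.Agent.MonsterX.MainSimple.mem_cent_iff A.hG A.hR A.hL A.hO A.hT _).1
      x.2⟩ : D.C)) ⟨?_, ?_⟩)
  · intro a b hab
    apply Subtype.ext
    apply Subtype.ext
    exact congrArg (fun y : D.C => (y : V ≃ₗ[ℚ] V)) hab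
  · intro c
    exact ⟨⟨⟨c, C_le c.2⟩, (Cfsg.Agent.MonsterX.MainSimple.mem_cent_iff A.hG A.hR A.hL A.hO A.hT _).2
      c.2⟩, rfl⟩

theorem na_b_model : NA 47 Spor.BabyMonster := by
  refine CTwoTab.BInst.elim ?_
  intro K _ _ hK hF _ _ _ _ q y h π f₁ f₂ f₃ f₄ M₁' hq h10 DK Fc hz hcz hcd hL hc5 big hq5 hcard Bs' hr
  have hp : (47 : ℕ).Prime := by norm_num
  obtain ⟨M₁, B2⟩ := BaseTwo.exists_base2 hq5
  have Bs : Base (q (y 5)) M₁ := B2.toBase
  have hnt : ∀ x d : Spor.BabyMonster, orderOf x = 47 → IsConj (q (y 5)) d → x * d = d * x → False :=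
    fun x d hx hd hxd => false_of_isConj (by rw [hcard]; norm_num) hx hd hxd
  have hcz' := card_cz CTwoTab.BInst.all
  rw [← hz] at hcz'
  have hnz := fun (x w : _) => false_of_isConj (p := 47) (by rw [hcz']; norm_num) (x := x) (d := w)
  -- the involutions of `M₁`
  have key : ∀ x u : Spor.BabyMonster, orderOf x = 47 → u * u = 1 → u ≠ 1 → x * u = u * x →
      (∃ h : Spor.BabyMonster, h⁻¹ * u * h ∈ M₁) → False := by
    rintro x u hx huu hu1 hxu ⟨g, hg⟩
    obtain ⟨k, hk, hqk⟩ := M_le hq h10 big Bs _ hg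
    have hkk : k * k = 1 := by
      refine lift_sq (Cfsg.Agent.TwoESix.LeviG.rootFacts hK hF) (KeyInst.extra hF) (Cfsg.Agent.TwoESix.RootsInst.roots K hF)
        hq h10 DK hk ?_
      rw [hqk]
      calc g⁻¹ * u * g * (g⁻¹ * u * g) = g⁻¹ * (u * u) * g := by group
        _ = 1 := by rw [huu]; group
    have hqk1 : q k ≠ 1 := by
      intro e
      apply hu1
      rw [hqk] at e
      calc u = g * (g⁻¹ * u * g) * g⁻¹ := by group
        _ = 1 := by rw [e]; group
    have hk1 : k ≠ 1 := fun e => hqk1 (by rw [e, map_one])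
    have hkτ : k ≠ tb _ _ := fun e => hqk1 (by rw [e, hq.mapz])
    obtain ⟨b, hb, hb47⟩ := exists_lift hq hp (by norm_num) ((orderOf_conj' g x).trans hx)
    have hbk : b * k = k * b := by
      refine lift_comm hq hp (by norm_num) hb47 ?_
      rw [hb, hqk]
      calc g⁻¹ * x * g * (g⁻¹ * u * g) = g⁻¹ * (x * u) * g := by group
        _ = g⁻¹ * (u * x) * g := by rw [hxu]
        _ = _ := by group
    have hbt : b * tb _ _ = tb _ _ * b := hq.comm b
    have hbO : orderOf ((BB _ _).subtype b) = 47 := by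
      rw [← hb47]
      exact orderOf_injective _ (Subgroup.subtype_injective _) b
    have hcomm : ∀ w : BB Cfsg.Agent.MonsterX.KDone.K Cfsg.Agent.MonsterX.KLinkInst.x₀, b * w = w * b →
        (BB _ _).subtype b * (BB _ _).subtype w = (BB _ _).subtype w * (BB _ _).subtype b := fun w hw => by
      rw [← map_mul, hw, map_mul]
    rcases Fc.classes k hkk hk1 hkτ with h1 | h1 | h1 | h1
    · exact hnt (q b) (q k) (by rw [hb]; exact (orderOf_conj' g x).trans hx) (q.map_isConj (hc5.symm.trans h1))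
        (by rw [← map_mul, hbk, map_mul])
    · refine hnz _ _ hbO (hcz.trans ((BB _ _).subtype.map_isConj (FusionType.conj_mul_t Fc.cen h1)))
        (hcomm _ ?_)
      rw [← mul_assoc, hbt, mul_assoc, hbk, ← mul_assoc]
    · exact hnz _ _ hbO (hcz.trans ((BB _ _).subtype.map_isConj h1)) (hcomm _ hbk)
    · exact hnz _ _ hbO (hcd.trans ((BB _ _).subtype.map_isConj h1)) (hcomm _ hbk)
  intro x u hx hu hxu
  have huu := sq_of_two hu
  have hu1 := ne_one_of_two hu
  rcases Bs.classes u huu hu1 with hg | ⟨d, hd, hc, hud⟩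
  · exact key x u hx huu hu1 hxu hg
  · obtain ⟨g, rfl⟩ := isConj_iff.1 hd
    have htt : q (y 5) * q (y 5) = 1 := by rw [← map_mul, h.sq 5 (by norm_num) (by norm_num), map_one]
    have htM : q (y 5) ∈ M₁ := by
      rw [BaseTwo.Base.eq_map hq h10 big Bs]
      exact ⟨y 5, (mem_KK' hq h10).2 (by group), rfl⟩
    have hcc := hc
    -- `e = g⁻¹ * u * g * t`
    have he1 : IsConj (q (y 5)) (g⁻¹ * u * g * q (y 5)) := by
      refine hud.trans (isConj_iff.2 ⟨g⁻¹, ?_⟩)
      group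
    have hut : g⁻¹ * u * g * q (y 5) = q (y 5) * (g⁻¹ * u * g) := by
      calc g⁻¹ * u * g * q (y 5) = g⁻¹ * (u * (g * q (y 5) * g⁻¹)) * g := by group
        _ = g⁻¹ * ((g * q (y 5) * g⁻¹) * u) * g := by rw [hc]
        _ = _ := by group
    have he2 : q (y 5) * (g⁻¹ * u * g * q (y 5)) = g⁻¹ * u * g := by
      rw [hut, ← mul_assoc, htt, one_mul]
    have he3 : g⁻¹ * u * g * q (y 5) * q (y 5) = g⁻¹ * u * g := by
      rw [mul_assoc, htt, mul_one]
    by_cases heM : g⁻¹ * u * g * q (y 5) ∈ M₁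
    · refine key x u hx huu hu1 hxu ⟨g, ?_⟩
      rw [← he3]
      exact M₁.mul_mem heM htM
    · have h1 := B2.comm_of_odd (g⁻¹ * u * g * q (y 5)) (g⁻¹ * x * g) he1 (by rw [he2, he3]) heM ?_ ?_
      · exact hnt _ _ ((orderOf_conj' g x).trans hx) (IsConj.refl _) h1
      · rw [orderOf_conj', hx]; decide
      · rw [he2]
        calc g⁻¹ * x * g * (g⁻¹ * u * g) = g⁻¹ * (x * u) * g := by group
          _ = g⁻¹ * (u * x) * g := by rw [hxu]
          _ = _ := by group

theorem na_b {G : Type*} [Group G] (h : Spor.IsoB G) : NA 47 G :=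
  h.elim fun e => na_b_model.of_equiv e.symm

end Cfsg.Agent.H393.Iso
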