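import Cfsg.Agent.H393.Iso.Base
import Cfsg.Agent.CTwoTab.JTwo
import Cfsg.Agent.KFacts.J3

/-!
# `J₂`, `J₃`: a prime not adjacent to 2 (helper393)
-/

set_option autoImplicit false

namespace Cfsg.Agent.H393.Iso

open Subgroup Cfsg Cfsg.Agent.J2Type.Model Cfsg.Agent.J2Type.SPFacts Cfsg.Agent.J2Type.CStruct
open Cfsg.Agent.J3Type.OneClass Cfsg.Agent.J2Type.Base Cfsg.Agent.KFacts.J2.Basic
open Cfsg.Agent.Co2Type.Quad Cfsg.Agent.KFacts.AutLarge Cfsg.Agent.KFacts.J3Sheet
open Cfsg.Agent.KFacts Cfsg.Agent.OddHalf.D4.Spor Cfsg.Agent.OddHalf.D4.Spor.JTwo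

/-- the orders of the centralizers of involutions of `J₂` -/
theorem j2_card {G : Type*} [Group G] [Finite G] (h : Spor.IsoJ2 G) {s : G} (hs : orderOf s = 2) :
    Nat.card (centralizer ({s} : Set G)) = 1920 ∨ Nat.card (centralizer ({s} : Set G)) = 240 := by
  obtain ⟨t, u, Q, v, ρ, D⟩ := Cfsg.Agent.KFacts.J2.Facts.exists_dat_of h
  have key : ∀ {a b : G}, IsConj a b →
      Nat.card (centralizer ({b} : Set G)) = Nat.card (centralizer ({a} : Set G)) := by
    intro a b hab
    obtain ⟨c, rfl⟩ := isConj_iff.1 hab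
    have h1 : centralizer ({c * a * c⁻¹} : Set G) = (centralizer ({a} : Set G)).map (MulAut.conj c).toMonoidHom := by
      ext x
      rw [mem_map_equiv, Iso.mem_cent, Iso.mem_cent, MulAut.conj_symm_apply]
      constructor
      · intro h
        calc c⁻¹ * x * c * a = c⁻¹ * (x * (c * a * c⁻¹)) * c := by group
          _ = c⁻¹ * (c * a * c⁻¹ * x) * c := by rw [h]
          _ = a * (c⁻¹ * x * c) := by group
      · intro h
        calc x * (c * a * c⁻¹) = c * (c⁻¹ * x * c * a) * c⁻¹ := by group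
          _ = c * (a * (c⁻¹ * x * c)) * c⁻¹ := by rw [h]
          _ = c * a * c⁻¹ * x := by group
    rw [h1]
    exact Nat.card_congr (((centralizer ({a} : Set G)).equivMapOfInjective _ (MulAut.conj c).injective).toEquiv).symm
  rcases D.F.cover s hs with h1 | h1
  · left
    rw [key h1]
    exact D.cardC
  · right
    rw [key h1]
    obtain ⟨f, U, V, H0, F⟩ := Cfsg.Agent.J2Type.CentU.main D.F
    rw [F.str.card, card_H0 D F]

theorem na_j2 {G : Type*} [Group G] [Finite G] (h : Spor.IsoJ2 G) : NA 7 G :=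
  NA.of_card fun t ht => by
    rcases j2_card h ht with h1 | h1 <;> rw [h1] <;> norm_num

theorem na_j3 {G : Type*} [Group G] [Finite G] (h : Spor.IsoJ3 G) : NA 19 G := by
  obtain ⟨-, z, Q, v, ρ, n, u, F⟩ := Cfsg.Agent.KFacts.J3.exists_facts h
  refine NA.of_rep (fun s => s = z) (fun t ht ht1 => ?_) ?_
  · obtain ⟨g, hg⟩ := F.one t ht1 ht
    exact ⟨g, z, rfl, hg⟩
  · rintro s rfl x hx hxs
    refine not_comm_of_card ?_ hx hxs
    rw [F.card_C]
    norm_num

end Cfsg.Agent.H393.Iso
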