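import Mathlib

/-!
# Odd primes not adjacent to 2 in the prime graph: tools (helper393)

`NA p X` : no element of order `p` commutes with an involution.
-/

set_option autoImplicit false

namespace Cfsg.Agent.H393.Iso

open Subgroup

universe u v

/-- no element of order `p` of `X` commutes with an involution -/
def NA (p : ℕ) (X : Type*) [Group X] : Prop :=
  ∀ x t : X, orderOf x = p → orderOf t = 2 → x * t ≠ t * x

section

variable {X : Type u} {Y : Type v} [Group X] [Group Y] {p : ℕ}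

theorem NA.of_equiv (e : X ≃* Y) (h : NA p X) : NA p Y := by
  intro x t hx ht hxt
  refine h (e.symm x) (e.symm t) ?_ ?_ ?_
  · rw [← hx]
    exact orderOf_injective e.symm.toMonoidHom e.symm.injective x
  · rw [← ht]
    exact orderOf_injective e.symm.toMonoidHom e.symm.injective t
  · rw [← map_mul, hxt, map_mul]

/-- an element of order `2p` -/
theorem NA.ne_two_mul (hp : p.Prime) (h : NA p X) (g : X) : orderOf g ≠ 2 * p := by
  intro hg
  refine h (g ^ 2) (g ^ p) ?_ ?_ ?_
  · have := orderOf_pow_of_dvd (x := g) (n := 2) (by norm_num) (by rw [hg]; exact dvd_mul_right _ _)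
    rw [this, hg, Nat.mul_div_cancel_left _ (by norm_num)]
  · have := orderOf_pow_of_dvd (x := g) (n := p) hp.ne_zero (by rw [hg]; exact dvd_mul_left _ _)
    rw [this, hg, Nat.mul_div_cancel _ hp.pos]
  · rw [← pow_add, ← pow_add, add_comm]

theorem mem_cent {s c : X} : c ∈ centralizer ({s} : Set X) ↔ c * s = s * c :=
  mem_centralizer_singleton_iff

theorem not_comm_of_card [Finite X] {t : X} (h : ¬ p ∣ Nat.card (centralizer ({t} : Set X))) {x : X}
    (hx : orderOf x = p) (hxt : x * t = t * x) : False := by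
  apply h
  rw [← hx]
  have h1 : orderOf (⟨x, mem_cent.2 hxt⟩ : centralizer ({t} : Set X)) = orderOf x := by
    rw [← orderOf_coe]
  rw [← h1]
  exact orderOf_dvd_natCard _

theorem not_comm_of_dvd [Finite X] {t : X} {n : ℕ} (h : Nat.card (centralizer ({t} : Set X)) ∣ n)
    (hn : ¬ p ∣ n) {x : X} (hx : orderOf x = p) (hxt : x * t = t * x) : False :=
  not_comm_of_card (fun hc => hn (hc.trans h)) hx hxt

theorem NA.of_card [Finite X]
    (h : ∀ t : X, orderOf t = 2 → ¬ p ∣ Nat.card (centralizer ({t} : Set X))) : NA p X :=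
  fun _ _ hx ht hxt => not_comm_of_card (h _ ht) hx hxt

/-- from the centralizers of the elements of order `p` -/
theorem NA.of_cent [Finite X]
    (h : ∀ x : X, orderOf x = p → ¬ 2 ∣ Nat.card (centralizer ({x} : Set X))) : NA p X := by
  intro x t hx ht hxt
  exact not_comm_of_card (p := 2) (h x hx) ht hxt.symm

theorem ne_one_of_two {t : X} (ht : orderOf t = 2) : t ≠ 1 := by
  rintro rfl
  rw [orderOf_one] at ht
  norm_num at ht

theorem sq_of_two {t : X} (ht : orderOf t = 2) : t * t = 1 := by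
  have := pow_orderOf_eq_one t
  rwa [ht, pow_two] at this

theorem two_of_sq {t : X} (ht : t * t = 1) (h1 : t ≠ 1) : orderOf t = 2 := by
  have hp2 : Fact (Nat.Prime 2) := ⟨Nat.prime_two⟩
  exact orderOf_eq_prime (by rw [pow_two]; exact ht) h1

/-- it is enough to look at representatives -/
theorem NA.of_rep (P : X → Prop) (hcl : ∀ t : X, t * t = 1 → t ≠ 1 → ∃ g s, P s ∧ g * s * g⁻¹ = t)
    (h : ∀ s, P s → ∀ x : X, orderOf x = p → x * s = s * x → False) : NA p X := by
  intro x t hx ht hxt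
  obtain ⟨g, s, hs, hg⟩ := hcl t (sq_of_two ht) (ne_one_of_two ht)
  refine h s hs (g⁻¹ * x * g) ?_ ?_
  · rw [← hx]
    have h1 := orderOf_injective (MulAut.conj g⁻¹).toMonoidHom (MulAut.conj g⁻¹).injective x
    rw [← h1]
    congr 1
    change _ = g⁻¹ * x * g⁻¹⁻¹
    rw [inv_inv]
  · have h2 : s = g⁻¹ * t * g := by rw [← hg]; group
    rw [h2]
    calc g⁻¹ * x * g * (g⁻¹ * t * g) = g⁻¹ * (x * t) * g := by group
      _ = g⁻¹ * (t * x) * g := by rw [hxt]
      _ = g⁻¹ * t * g * (g⁻¹ * x * g) := by group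

theorem NA.of_isConj (P : X → Prop) (hcl : ∀ t : X, t * t = 1 → t ≠ 1 → ∃ s, P s ∧ IsConj s t)
    (h : ∀ s, P s → ∀ x : X, orderOf x = p → x * s = s * x → False) : NA p X := by
  refine NA.of_rep P (fun t ht ht1 => ?_) h
  obtain ⟨s, hs, hst⟩ := hcl t ht ht1
  obtain ⟨g, hg⟩ := isConj_iff.1 hst
  exact ⟨g, s, hs, hg⟩

/-- self-centralizing Sylow subgroups of order `p` -/
theorem NA.of_sylow [Finite X] (hp : p.Prime) (hp2 : p ≠ 2) (hpp : ¬ p ^ 2 ∣ Nat.card X)
    (h : ∀ P : Sylow p X, centralizer (P : Set X) = (P : Subgroup X)) : NA p X := by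
  intro x t hx ht hxt
  have hpf : Fact p.Prime := ⟨hp⟩
  have hZ : IsPGroup p (zpowers x) := by
    rw [IsPGroup.iff_card]
    exact ⟨1, by rw [Nat.card_zpowers, hx, pow_one]⟩
  obtain ⟨P, hP⟩ := hZ.exists_le_sylow
  have hPc : (P : Subgroup X) = zpowers x := by
    obtain ⟨k, hk⟩ := IsPGroup.iff_card.1 P.2
    have h1 : p ∣ Nat.card (P : Subgroup X) := by
      have h0 := card_dvd_of_le hP
      rwa [Nat.card_zpowers, hx] at h0
    have h2 : k < 2 := by
      by_contra hc
      push Not at hc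
      exact hpp ((pow_dvd_pow p hc).trans (hk ▸ card_subgroup_dvd_card _))
    have h3 : k = 1 := by
      rcases k with _ | _ | k
      · rw [hk, pow_zero] at h1
        exact absurd (Nat.dvd_one.1 h1) hp.one_lt.ne'
      · rfl
      · omega
    symm
    apply eq_of_le_of_card_ge hP
    rw [hk, h3, pow_one, Nat.card_zpowers, hx]
  have htc : t ∈ centralizer (P : Set X) := by
    rw [mem_centralizer_iff]
    intro y hy
    have hy' : y ∈ zpowers x := hPc ▸ hy
    obtain ⟨k, rfl⟩ := mem_zpowers_iff.1 hy'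
    exact (Commute.zpow_left hxt k : _)
  rw [h P, hPc] at htc
  have h4 : orderOf t ∣ Nat.card (zpowers x) := by
    have := orderOf_dvd_natCard (⟨t, htc⟩ : zpowers x)
    rwa [← orderOf_coe] at this
  rw [ht, Nat.card_zpowers, hx] at h4
  rcases (Nat.dvd_prime hp).1 h4 with h5 | h5
  · norm_num at h5
  · exact hp2 h5.symm

/-- An element of order `p` normalizing a `2`-group (or `r`-group) of order `< r ^ d`, `d` = order of `r` mod `p`,
centralizes it. -/
theorem comm_of_normalizes [Finite X] (hp : p.Prime) {r d k : ℕ} (hr : r.Prime) (hrp : r ≠ p)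
    (hd : ∀ n, 0 < n → n ≤ d → ¬ p ∣ r ^ n - 1) {R : Subgroup X} (hR : Nat.card R = r ^ k)
    {x : X} (hx : orderOf x = p) (hn : ∀ y ∈ R, x * y * x⁻¹ ∈ R)
    (hk : k ≤ d ∨ k = d + 1 ∧ ∃ z ∈ R, z ≠ 1 ∧ x * z = z * x) : ∀ y ∈ R, x * y = y * x := by
  have hpf : Fact p.Prime := ⟨hp⟩
  have hxn : ∀ g ∈ zpowers x, ∀ y ∈ R, g * y * g⁻¹ ∈ R := by
    have h1 : x ∈ normalizer (R : Set X) := by
      have h2 : ∀ y : X, y ∈ R → x * y * x⁻¹ ∈ R := hn
      have hinj : Function.Injective (fun y : R => (⟨x * y * x⁻¹, hn y y.2⟩ : R)) := by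
        intro a b hab
        have := congrArg Subtype.val hab
        simp only [mul_left_inj, mul_right_inj] at this
        exact Subtype.ext this
      have hsurj := Finite.surjective_of_injective hinj
      rw [mem_normalizer_iff]
      intro y
      refine ⟨h2 y, fun h3 => ?_⟩
      obtain ⟨⟨a, ha⟩, hab⟩ := hsurj ⟨x * y * x⁻¹, h3⟩
      have := congrArg Subtype.val hab
      simp only [mul_left_inj, mul_right_inj] at this
      rw [← this]
      exact ha
    have h2 : zpowers x ≤ normalizer (R : Set X) := by rwa [zpowers_le]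
    intro g hg y hy
    exact (mem_normalizer_iff.1 (h2 hg) y).1 hy
  let act : MulAction (zpowers x) R :=
    { smul := fun g y => ⟨g * y * (g : X)⁻¹, hxn g g.2 y y.2⟩
      one_smul := fun y => Subtype.ext (by
        change ((1 : zpowers x) : X) * y * ((1 : zpowers x) : X)⁻¹ = y
        rw [coe_one, one_mul, inv_one, mul_one])
      mul_smul := fun g h y => Subtype.ext (by
        change ((g * h : zpowers x) : X) * y * ((g * h : zpowers x) : X)⁻¹ = g * (h * y * (h : X)⁻¹) * (g : X)⁻¹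
        rw [coe_mul]; group) }
  have hP : IsPGroup p (zpowers x) := by
    rw [IsPGroup.iff_card]
    exact ⟨1, by rw [Nat.card_zpowers, hx, pow_one]⟩
  have hmod := hP.card_modEq_card_fixedPoints R
  -- the centralizer
  let C : Subgroup X := R ⊓ centralizer ({x} : Set X)
  have hfix : Nat.card (MulAction.fixedPoints (zpowers x) R) = Nat.card C := by
    refine Nat.card_congr ⟨fun y => ⟨y.1.1, y.1.2, ?_⟩, fun y => ⟨⟨y.1, y.2.1⟩, ?_⟩, fun y => rfl, fun y => rfl⟩
    · have h1 : (⟨x, mem_zpowers x⟩ : zpowers x) • y.1 = y.1 := y.2 _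
      have h2 : x * y.1.1 * x⁻¹ = y.1.1 := congrArg Subtype.val h1
      change y.1.1 ∈ centralizer ({x} : Set X)
      rw [mem_cent]
      calc (y.1.1 : X) * x = (x * y.1.1 * x⁻¹) * x := by rw [h2]
        _ = x * y.1.1 := by group
    · intro g
      apply Subtype.ext
      change (g : X) * y.1 * (g : X)⁻¹ = y.1
      obtain ⟨n, hn⟩ := mem_zpowers_iff.1 g.2
      have h1 : Commute x (y.1 : X) := (mem_cent.1 y.2.2).symm
      have h2 : Commute (g : X) (y.1 : X) := by rw [← hn]; exact h1.zpow_left n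
      rw [h2.eq, mul_inv_cancel_right]
  obtain ⟨m, hmk, hm⟩ := (Nat.dvd_prime_pow hr).1 (hR ▸ card_dvd_of_le (inf_le_left : C ≤ R) : Nat.card C ∣ r ^ k)
  rw [hfix, hm, hR] at hmod
  have hdvd : p ∣ r ^ k - r ^ m := (Nat.modEq_iff_dvd' (Nat.pow_le_pow_right hr.pos hmk)).1 hmod.symm
  have hfac : r ^ k - r ^ m = r ^ m * (r ^ (k - m) - 1) := by
    rw [Nat.mul_sub, mul_one, ← pow_add, Nat.add_sub_cancel' hmk]
  have hkm : k = m := by
    by_contra hne
    have hlt : m < k := lt_of_le_of_ne hmk (Ne.symm hne)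
    rw [hfac] at hdvd
    have hpr : ¬ p ∣ r ^ m := by
      intro h
      have h1 := hp.dvd_of_dvd_pow h
      exact hrp ((Nat.prime_dvd_prime_iff_eq hp hr).1 h1).symm
    have h2 := (hp.dvd_mul.1 hdvd).resolve_left hpr
    refine hd (k - m) (by omega) ?_ h2
    rcases hk with hk | ⟨hk, z, hz, hz1, hxz⟩
    · omega
    · have hm0 : m ≠ 0 := by
        rintro rfl
        have hC : C = ⊥ := by rw [← card_eq_one, hm, pow_zero]
        have hzC : z ∈ C := ⟨hz, mem_cent.2 hxz.symm⟩
        rw [hC, mem_bot] at hzC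
        exact hz1 hzC
      omega
  have hCR : C = R := by
    apply eq_of_le_of_card_ge inf_le_left
    rw [hR, hm, hkm]
  intro y hy
  rw [← hCR] at hy
  exact (mem_cent.1 hy.2).symm

/-- the form used: a normal `2`-subgroup `R` of the centralizer of `t`, with `C(R) ≤ R` -/
theorem false_of_two_group [Finite X] (hp : p.Prime) (hp2 : p ≠ 2) {d k : ℕ}
    (hd : ∀ n, 0 < n → n ≤ d → ¬ p ∣ 2 ^ n - 1) {R : Subgroup X} (hR : Nat.card R = 2 ^ k)
    {x : X} (hx : orderOf x = p) (hn : ∀ y ∈ R, x * y * x⁻¹ ∈ R)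
    (hk : k ≤ d ∨ k = d + 1 ∧ ∃ z ∈ R, z ≠ 1 ∧ x * z = z * x)
    (hC : (∀ y ∈ R, x * y = y * x) → x ∈ R ∨ x * x = 1) : False := by
  have h1 := hC (comm_of_normalizes hp Nat.prime_two hp2.symm hd hR hx hn hk)
  rcases h1 with h1 | h1
  · have h2 : p ∣ 2 ^ k := by
      rw [← hR, ← hx]
      have := orderOf_dvd_natCard (⟨x, h1⟩ : R)
      rwa [← orderOf_coe] at this
    exact hp2 ((Nat.prime_dvd_prime_iff_eq hp Nat.prime_two).1 (hp.dvd_of_dvd_pow h2))
  · have h2 : p ∣ 2 := by
      rw [← hx]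
      exact orderOf_dvd_of_pow_eq_one (by rw [pow_two]; exact h1)
    exact hp2 ((Nat.prime_dvd_prime_iff_eq hp Nat.prime_two).1 h2)

/-- a `2`-group `R` normalized by `x` whose centralizer in ... has no elements of order `p` -/
theorem false_of_pGroup [Finite X] (hp : p.Prime) (hp2 : p ≠ 2) {d : ℕ}
    (hd : ∀ n, 0 < n → n ≤ d → ¬ p ∣ 2 ^ n - 1) {R : Subgroup X} (hR : IsPGroup 2 R)
    (hX : ¬ 2 ^ (d + 2) ∣ Nat.card X)
    {x : X} (hx : orderOf x = p) (hn : ∀ y ∈ R, x * y * x⁻¹ ∈ R)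
    {z : X} (hz : z ∈ R) (hz1 : z ≠ 1) (hxz : x * z = z * x)
    {m : ℕ} (hC : (∀ y ∈ R, x * y = y * x) → x ^ 2 ^ m = 1) : False := by
  obtain ⟨k, hk⟩ := IsPGroup.iff_card.1 hR
  have hkd : k ≤ d + 1 := by
    by_contra hc
    push Not at hc
    exact hX ((pow_dvd_pow 2 hc).trans (hk ▸ card_subgroup_dvd_card R))
  have h1 := hC (comm_of_normalizes hp Nat.prime_two hp2.symm hd hk hx hn (by
    rcases Nat.lt_or_ge k (d + 1) with h1 | h1
    · exact Or.inl (by omega)
    · exact Or.inr ⟨by omega, z, hz, hz1, hxz⟩))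
  have h2 : p ∣ 2 ^ 2 ^ m := by
    have h3 : orderOf x ∣ 2 ^ m := orderOf_dvd_of_pow_eq_one h1
    rw [hx] at h3
    exact absurd ((Nat.prime_dvd_prime_iff_eq hp Nat.prime_two).1 (hp.dvd_of_dvd_pow h3)) hp2
  exact hp2 ((Nat.prime_dvd_prime_iff_eq hp Nat.prime_two).1 (hp.dvd_of_dvd_pow h2))

/-- an element of order `p` permuting fewer than `p` elements commutes with them -/
theorem comm_of_small (hp : p.Prime) {Z : Set X} (hfin : Z.Finite) {x : X} (hx : orderOf x = p)
    (hZ : ∀ z ∈ Z, x * z * x⁻¹ ∈ Z) (hcard : Z.ncard < p) : ∀ z ∈ Z, x * z = z * x := by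
  intro z hz
  have hpow : ∀ n : ℕ, x ^ n * z * (x ^ n)⁻¹ ∈ Z := by
    intro n
    induction n with
    | zero => simpa using hz
    | succ n ih =>
      have := hZ _ ih
      have e : x ^ (n + 1) * z * (x ^ (n + 1))⁻¹ = x * (x ^ n * z * (x ^ n)⁻¹) * x⁻¹ := by
        rw [pow_succ']; group
      rwa [e]
  obtain ⟨i, hi, j, hj, hij, he⟩ := Finset.exists_ne_map_eq_of_card_lt_of_maps_to
    (s := Finset.range p) (t := hfin.toFinset) (f := fun n => x ^ n * z * (x ^ n)⁻¹)
    (by rw [Finset.card_range, ← Set.ncard_eq_toFinset_card Z hfin]; exact hcard)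
    (fun n _ => by simpa using hpow n)
  have key : ∀ i j : ℕ, i < j → j < p → x ^ i * z * (x ^ i)⁻¹ = x ^ j * z * (x ^ j)⁻¹ → x * z = z * x := by
    intro i j hij hj he
    have h1 : Commute (x ^ (j - i)) z := by
      have e1 : x ^ j = x ^ i * x ^ (j - i) := by rw [← pow_add, Nat.add_sub_cancel' hij.le]
      rw [e1] at he
      have h2 : z = x ^ (j - i) * z * (x ^ (j - i))⁻¹ := by
        have h3 : x ^ i * z * (x ^ i)⁻¹ = x ^ i * (x ^ (j - i) * z * (x ^ (j - i))⁻¹) * (x ^ i)⁻¹ := by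
          rw [he]; group
        exact mul_left_cancel (mul_right_cancel h3)
      have h4 : x ^ (j - i) * z = z * x ^ (j - i) := by
        calc x ^ (j - i) * z = (x ^ (j - i) * z * (x ^ (j - i))⁻¹) * x ^ (j - i) := by group
          _ = z * x ^ (j - i) := by rw [← h2]
      exact h4
    have hcop : Nat.Coprime (j - i) p := by
      rw [Nat.coprime_comm, Nat.Prime.coprime_iff_not_dvd hp]
      intro h
      have := Nat.le_of_dvd (by omega) h
      omega
    obtain ⟨m, -, hm⟩ := Nat.exists_mul_mod_eq_one_of_coprime hcop hp.one_lt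
    have h5 : (x ^ (j - i)) ^ m = x := by
      rw [← pow_mul, ← pow_mod_orderOf, hx, hm, pow_one]
    have h6 := h1.pow_left m
    rw [h5] at h6
    exact h6
  rw [Finset.mem_range] at hi hj
  rcases lt_or_gt_of_ne hij with h | h
  · exact key i j h hj he
  · exact key j i h hi he.symm

/-- `C / {1, w}` embeds in a group of order prime to `p` -/
theorem false_of_hom (hp : p.Prime) {C : Subgroup X} {U : Type*} [Group U] (f : C →* U)
    (hU : ¬ p ∣ Nat.card U) {w : X} (hw : orderOf w ≠ p) (hk : ∀ y : C, f y = 1 → y = 1 ∨ (y : X) = w)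
    {x : X} (hx : orderOf x = p) (hxC : x ∈ C) : False := by
  have h1 : f ⟨x, hxC⟩ ^ p = 1 := by
    rw [← map_pow]
    have : (⟨x, hxC⟩ : C) ^ p = 1 := Subtype.ext (by
      change x ^ p = 1
      rw [← hx, pow_orderOf_eq_one])
    rw [this, map_one]
  have h2 : orderOf (f ⟨x, hxC⟩) ∣ p := orderOf_dvd_of_pow_eq_one h1
  have h3 : f ⟨x, hxC⟩ = 1 := by
    rcases (Nat.dvd_prime hp).1 h2 with h | h
    · exact orderOf_eq_one_iff.1 h
    · exact absurd (h ▸ orderOf_dvd_natCard _) hU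
  rcases hk _ h3 with h4 | h4
  · have h5 : x = 1 := congrArg Subtype.val h4
    rw [h5, orderOf_one] at hx
    exact hp.one_lt.ne hx
  · have h5 : x = w := h4
    rw [h5] at hx
    exact hw hx

/-- simple form -/
theorem false_of_pGroup' [Finite X] (hp : p.Prime) (hp2 : p ≠ 2) {d : ℕ}
    (hd : ∀ n, 0 < n → n ≤ d → ¬ p ∣ 2 ^ n - 1) {R : Subgroup X} (hR : IsPGroup 2 R)
    (hX : ¬ 2 ^ (d + 1) ∣ Nat.card X)
    {x : X} (hx : orderOf x = p) (hn : ∀ y ∈ R, x * y * x⁻¹ ∈ R)
    {m : ℕ} (hC : (∀ y ∈ R, x * y = y * x) → x ^ 2 ^ m = 1) : False := by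
  obtain ⟨k, hk⟩ := IsPGroup.iff_card.1 hR
  have hkd : k ≤ d := by
    by_contra hc
    push Not at hc
    exact hX ((pow_dvd_pow 2 hc).trans (hk ▸ card_subgroup_dvd_card R))
  have h1 := hC (comm_of_normalizes hp Nat.prime_two hp2.symm hd hk hx hn (Or.inl hkd))
  have h3 : orderOf x ∣ 2 ^ m := orderOf_dvd_of_pow_eq_one h1
  rw [hx] at h3
  exact absurd ((Nat.prime_dvd_prime_iff_eq hp Nat.prime_two).1 (hp.dvd_of_dvd_pow h3)) hp2

/-- the order of `C(t)` is a small multiple of the order of a subgroup -/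
theorem not_comm_of_le [Finite X] (hp : p.Prime) {t : X} {n : ℕ} (h : Nat.card (centralizer ({t} : Set X)) ≤ n)
    {L : Subgroup X} (hL : L ≤ centralizer ({t} : Set X)) (hpL : ¬ p ∣ Nat.card L)
    (hn : n < p * Nat.card L) {x : X} (hx : orderOf x = p) (hxt : x * t = t * x) : False := by
  refine not_comm_of_card (fun hc => ?_) hx hxt
  have h1 : Nat.card L ∣ Nat.card (centralizer ({t} : Set X)) := card_dvd_of_le hL
  have h2 : p * Nat.card L ∣ Nat.card (centralizer ({t} : Set X)) :=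
    Nat.Coprime.mul_dvd_of_dvd_of_dvd ((Nat.Prime.coprime_iff_not_dvd hp).2 hpL) hc h1
  have h3 := Nat.le_of_dvd Nat.card_pos h2
  omega

/-- check: `p` does not divide `r ^ n - 1`, `0 < n ≤ d` -/
def okd (p r d : ℕ) : Bool := (List.range d).all fun n => (r ^ (n + 1) - 1) % p != 0

theorem okd_spec {p r d : ℕ} (h : okd p r d = true) : ∀ n, 0 < n → n ≤ d → ¬ p ∣ r ^ n - 1 := by
  intro n h0 h1 h2
  rw [okd, List.all_eq_true] at h
  have h3 := h (n - 1) (List.mem_range.2 (by omega))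
  rw [Nat.sub_add_cancel h0] at h3
  rw [Nat.mod_eq_zero_of_dvd h2] at h3
  simp at h3

/-- some power of `x`, prime to `p`, lies in a subgroup of order prime to `p` -/
theorem false_of_pow_mem [Finite X] (hp : p.Prime) {L : Subgroup X} (hL : ¬ p ∣ Nat.card L) {x : X}
    (hx : orderOf x = p) {n : ℕ} (hn : ¬ p ∣ n) (hxn : x ^ n ∈ L) : False := by
  apply hL
  have h1 : orderOf (x ^ n) = p := by
    rw [orderOf_pow, hx, Nat.Coprime.gcd_eq_one ((Nat.Prime.coprime_iff_not_dvd hp).2 hn), Nat.div_one]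
  have h2 := orderOf_dvd_natCard (⟨x ^ n, hxn⟩ : L)
  rwa [← orderOf_coe, h1] at h2

theorem false_of_mem [Finite X] {L : Subgroup X} (hL : ¬ p ∣ Nat.card L) {x : X}
    (hx : orderOf x = p) (hxn : x ∈ L) : False := by
  apply hL
  have h2 := orderOf_dvd_natCard (⟨x, hxn⟩ : L)
  rwa [← orderOf_coe, hx] at h2

end

end Cfsg.Agent.H393.Iso
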