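import Cfsg.Agent.H393.Iso.Base
import Cfsg.Agent.CTwoTab.Ru
import Cfsg.Agent.NotCT.Orders

/-!
# `Ru`: a prime not adjacent to 2 (helper393)
-/

set_option autoImplicit false

namespace Cfsg.Agent.H393.Iso

open Subgroup Cfsg Cfsg.Agent.RuB Cfsg.Agent.RuB.Core Cfsg.Agent.RuB.Count Cfsg.Agent.RuB.NormQ
open Cfsg.Agent.RuB.NormZ Cfsg.Agent.Ru127.Form Cfsg.Agent.Ru127.Basic
open Cfsg.Agent.KFacts.Ru Cfsg.Agent.ThreePrime

theorem na_ru {G : Type*} [Group G] [Finite G] (h : Spor.IsoRu G) : NA 29 G := by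
  have hcard := NotCT.Orders.ru h
  obtain ⟨C, -, hL⟩ := CTwoTab.Ru.exists_core_sz h
  refine NA.of_rep (fun s => s = C.z 1 ∨ ∃ a, a ≠ 0 ∧ s = C.v a) (fun x hxx hx1 => ?_) ?_
  · rcases InvC.invol_cases C hxx hx1 with ⟨g, hg⟩ | ⟨g, a, ha, hg⟩
    · exact ⟨g, C.z 1, Or.inl rfl, hg⟩
    · exact ⟨g, C.v a, Or.inr ⟨a, ha, rfl⟩, hg⟩
  · rintro s (rfl | ⟨a, ha, rfl⟩) x hx hxs
    · obtain ⟨R, h1, h2, h3, h4⟩ := CTwoTab.Ru.data_z C
      have hxC : x ∈ centralizer ({C.z 1} : Set G) := mem_cent.2 hxs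
      exact false_of_pGroup' (by norm_num) (by norm_num) (d := 14) (okd_spec (by decide +kernel)) h3
        (by rw [hcard]; norm_num) hx (fun y hy => h2 x hxC y hy) (m := 11) (fun h5 => h4 x hxC h5)
    · obtain ⟨b, l, hl, hxl⟩ := C.cent a ha x hxs
      refine false_of_pow_mem (by norm_num) (L := C.L) ?_ hx (n := 2) (by norm_num) ?_
      · rw [hL]
        norm_num
      · have h1 : (C.v b * l) * (C.v b * l) = l * l := by
          calc (C.v b * l) * (C.v b * l) = C.v b * (l * C.v b) * l := by group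
            _ = C.v b * (C.v b * l) * l := by rw [C.v_comm b l hl]
            _ = (C.v b * C.v b) * (l * l) := by group
            _ = l * l := by rw [C.v_sq b, one_mul]
        rw [pow_two, hxl, h1]
        exact mul_mem hl hl

end Cfsg.Agent.H393.Iso
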