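import Cfsg.Agent.H393.Iso.Base
import Cfsg.Agent.Co2Type.FactsClass
import Cfsg.Agent.SigZeroCo2.Lin

/-!
# `Co₂`: a prime not adjacent to 2 (helper393)
-/

set_option autoImplicit false

namespace Cfsg.Agent.H393.Iso

open Module Polynomial

/-- an endomorphism of order dividing `p` of a rational space of dimension less than `p - 1` is trivial -/
theorem end_eq_one {W : Type*} [AddCommGroup W] [Module ℚ W] [FiniteDimensional ℚ W] {p : ℕ} (hp : p.Prime)
    (f : End ℚ W) (hf : f ^ p = 1) (hd : finrank ℚ W < p - 1) : f = 1 := by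
  rcases subsingleton_or_nontrivial W with hW | hW
  · ext v; exact Subsingleton.elim _ _
  have hirr : Irreducible (cyclotomic p ℚ) := cyclotomic.irreducible_rat hp.pos
  have hfact : Fact p.Prime := ⟨hp⟩
  have h1 : minpoly ℚ f ∣ X ^ p - 1 := minpoly.dvd ℚ f (by simp [hf])
  have h2 : (X : ℚ[X]) ^ p - 1 = cyclotomic p ℚ * (X - 1) := (cyclotomic_prime_mul_X_sub_one ℚ p).symm
  rw [h2] at h1
  have h0 : minpoly ℚ f ≠ 0 := minpoly.ne_zero (Algebra.IsIntegral.isIntegral f)
  have h3 : ¬ cyclotomic p ℚ ∣ minpoly ℚ f := by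
    intro h
    have h4 := Polynomial.natDegree_le_of_dvd h h0
    rw [natDegree_cyclotomic, Nat.totient_prime hp] at h4
    have h5 := Polynomial.natDegree_le_of_dvd (LinearMap.minpoly_dvd_charpoly f) f.charpoly_monic.ne_zero
    rw [LinearMap.charpoly_natDegree] at h5
    omega
  have h6 : IsCoprime (minpoly ℚ f) (cyclotomic p ℚ) :=
    ((hirr.coprime_iff_not_dvd).2 h3).symm
  have h7 : minpoly ℚ f ∣ X - 1 := h6.dvd_of_dvd_mul_left h1
  have h8 : aeval f (X - 1 : ℚ[X]) = 0 := by
    obtain ⟨q, hq⟩ := h7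
    rw [hq, map_mul, minpoly.aeval, zero_mul]
  simpa [sub_eq_zero] using h8

open Cfsg Cfsg.Agent.Co2Type.Mono Cfsg.Agent.Co2Type.FactsClass Cfsg.Agent.SigZeroCo2.Lin Cfsg.Agent.SigZeroCo2.Rank

theorem fix_of_restrict {g : Co0} {p : ℕ} (hp : p.Prime) (hg : g ^ p = 1) (U : Submodule ℚ Sp)
    (hU : ∀ v ∈ U, rep g v ∈ U) (hd : finrank ℚ U < p - 1) : ∀ v ∈ U, rep g v = v := by
  have h1 : ((rep g).restrict hU) ^ p = 1 := by
    rw [Module.End.pow_restrict]
    have h2 : (rep g) ^ p = 1 := by rw [← map_pow, hg, map_one]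
    ext v
    rw [LinearMap.coe_restrict_apply, h2]
    rfl
  have h2 := end_eq_one hp _ h1 hd
  intro v hv
  have h3 := congrArg (fun f : End ℚ U => ((f ⟨v, hv⟩ : U) : Sp)) h2
  exact h3

theorem co0_comm {g t : Co0} {p : ℕ} (hp : p.Prime) (hg : g ^ p = 1) (ht : t * t = 1) (hc : g * t = t * g)
    (h1 : 192 + tr8 t < 16 * ((p : ℤ) - 1)) (h2 : 192 - tr8 t < 16 * ((p : ℤ) - 1)) : g = 1 := by
  have hp1 := hp.one_lt
  have hcv : ∀ v, rep g (rep t v) = rep t (rep g v) := fun v => by rw [← rep_mul, hc, rep_mul]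
  have htt : ∀ v, rep t (rep t v) = v := fun v => by rw [← rep_mul, ht, rep_one]
  have e1 : ∀ v ∈ fix (rep t), rep g v = v := by
    refine fix_of_restrict hp hg _ (fun v hv => ?_) ?_
    · rw [mem_fix] at hv ⊢
      rw [← hcv, hv]
    · have h3 := finrank_fix_two ht
      have h4 : 16 * ((finrank ℚ (fix (rep t)) : ℕ) : ℤ) = 192 + tr8 t := by exact_mod_cast h3
      omega
  have e2 : ∀ v ∈ neg (rep t), rep g v = v := by
    refine fix_of_restrict hp hg _ (fun v hv => ?_) ?_
    · rw [mem_neg] at hv ⊢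
      rw [← hcv, hv, map_neg]
    · have h3 := finrank_neg_two ht
      have h4 : 16 * ((finrank ℚ (neg (rep t)) : ℕ) : ℤ) = 192 - tr8 t := by exact_mod_cast h3
      omega
  apply rep_injective
  rw [map_one]
  refine LinearMap.ext fun v => ?_
  have e3 := e1 (v + rep t v) (by rw [mem_fix, map_add, htt, add_comm])
  have e4 := e2 (v - rep t v) (by rw [mem_neg, map_sub, htt, neg_sub])
  have e5 : (2 : ℚ) • v = (v + rep t v) + (v - rep t v) := by module
  have e6 : (2 : ℚ) • rep g v = (2 : ℚ) • v := by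
    rw [← map_smul, e5, map_add, e3, e4]
  rw [Module.End.one_apply]
  have := congrArg (fun w => (2 : ℚ)⁻¹ • w) e6
  simpa [smul_smul] using this

theorem na_co2_model : NA 23 Spor.Co2 := by
  intro x t hx ht hc
  have htt := sq_of_two ht
  have ht1 := ne_one_of_two ht
  have h1 : tr t = -8 ∨ tr t = 8 ∨ tr t = 0 := by
    rcases classes htt ht1 with h | h | h
    · left; rw [← tr_of_isConj h]; exact tr_z
    · right; left; rw [← tr_of_isConj h]; exact tr_y
    · right; right; rw [← tr_of_isConj h]; exact tr_v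
  have h2 : toCo0 x = 1 := by
    refine co0_comm (p := 23) (by norm_num) (t := toCo0 t) ?_ ?_ ?_ ?_ ?_
    · rw [← map_pow, ← hx, pow_orderOf_eq_one, map_one]
    · rw [← map_mul, htt, map_one]
    · rw [← map_mul, hc, map_mul]
    · unfold tr at h1
      push_cast
      omega
    · unfold tr at h1
      push_cast
      omega
  have h3 : x = 1 := toCo0_injective (h2.trans (map_one _).symm)
  rw [h3, orderOf_one] at hx
  omega

theorem na_co2 {G : Type*} [Group G] (h : Spor.IsoCo2 G) : NA 23 G :=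
  h.elim fun e => na_co2_model.of_equiv e.symm

end Cfsg.Agent.H393.Iso
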