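import Cfsg.Agent.H393.Iso.All
import Cfsg.Agent.H150.FarSp

/-!
# The sporadic rows of `Far` (helper393)
-/

set_option autoImplicit false

namespace Cfsg.Agent.H393.Iso

open Cfsg

theorem far_of_isSporadic {G : Type*} [Group G] [Finite G] [IsSimpleGroup G] (h : IsSporadicGroup G) :
    Cfsg.Agent.H150.Far G := (isolated_of_isSporadic h).far

theorem far_of_isTits {G : Type*} [Group G] [Finite G] (h : Lie.IsoTits G) : Cfsg.Agent.H150.Far G :=
  (isolated_of_isTits h).far

end Cfsg.Agent.H393.Iso
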