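import Cfsg.Agent.H393.Iso.Base
import Cfsg.Agent.CTwoTab.Fi22

/-!
# `Fi22`: a prime not adjacent to 2 (helper393)
-/

set_option autoImplicit false

namespace Cfsg.Agent.H393.Iso

open Subgroup Cfsg Cfsg.Agent.R01.FiFusion Cfsg.Agent.R01.FiFacts Cfsg.Agent.StdFi22.TLev
open Cfsg.Agent.OddHalf.D8.Fi22
open Cfsg.Agent.OddHalf.D4.Spor.Fi22 (inv_cases bal comm_tri sq_one comm_w exists_ncomm)
open Cfsg.Agent.StdFi22.MainFi22 (bas)
open Cfsg.Agent.R08.AutT (T)

theorem fi22_one {d : Spor.Fi22} (hd : d ∈ T) {x : Spor.Fi22} (hx : orderOf x = 13) (hxd : x * d = d * x) :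
    False := by
  have := CTwoTab.Fi22.finite
  obtain ⟨b, c, ht⟩ := bas.exists_tri hd
  obtain ⟨R, F⟩ := CTwoTab.Fi22.facts hd ht.my ht.xy ht.cxy
  refine not_comm_of_card ?_ hx hxd
  rw [CTwoTab.Fi22.card_cent F]
  norm_num

theorem fi22_two {a b : Spor.Fi22} (ha : a ∈ T) (hb : b ∈ T) (hab : a ≠ b) (cab : a * b = b * a)
    {x : Spor.Fi22} (hx : orderOf x = 13) (hxd : x * (a * b) = a * b * x) : False := by
  have := CTwoTab.Fi22.finite
  obtain ⟨R, F⟩ := CTwoTab.Fi22.facts ha hb hab cab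
  let Z : Set Spor.Fi22 := {z | ∀ y ∈ R, z * y = y * z}
  have hZ : Z ⊆ {1, a, b, a * b} := by
    intro z hz
    rcases F.R_center z hz with rfl | rfl | rfl | rfl
    · simp
    · simp
    · simp
    · simp
  have haZ : a ∈ Z := by
    intro y hy
    exact ((CTwoTab.Fi22.mem_pair.1 (F.R_le hy)).1).symm
  have hxinv : x⁻¹ * (a * b) = a * b * x⁻¹ := by
    rw [inv_mul_eq_iff_eq_mul, ← mul_assoc, hxd, mul_assoc, mul_inv_cancel, mul_one]
  refine fi22_one ha hx (comm_of_small (p := 13) (by norm_num) (Z := Z) (Set.toFinite _) hx ?_ ?_ a haZ)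
  · intro z hz y hy
    have h1 := F.R_normal x⁻¹ hxinv y hy
    have h2 := hz _ h1
    calc x * z * x⁻¹ * y = x * (z * (x⁻¹ * y * x⁻¹⁻¹)) * x⁻¹ := by group
      _ = x * ((x⁻¹ * y * x⁻¹⁻¹) * z) * x⁻¹ := by rw [h2]
      _ = y * (x * z * x⁻¹) := by group
  · refine lt_of_le_of_lt (Set.ncard_le_ncard hZ (Set.toFinite _)) ?_
    refine lt_of_le_of_lt (Set.ncard_insert_le _ _) ?_
    have h1 := Set.ncard_insert_le a ({b, a * b} : Set Spor.Fi22)
    have h2 := Set.ncard_insert_le b ({a * b} : Set Spor.Fi22)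
    rw [Set.ncard_singleton] at h2
    omega

theorem fi22_three {a b c : Spor.Fi22} (ht : Tri T a b c)
    {x : Spor.Fi22} (hx : orderOf x = 13) (hxd : x * (a * b * c) = a * b * c * x) : False := by
  have := CTwoTab.Fi22.finite
  obtain ⟨a', b', c', H⟩ := bas.tf.hex a b c ht
  let Z : Set Spor.Fi22 := {n | n ∈ T ∧ n * (a * b * c) = a * b * c * n ∧
    ∀ t ∈ T, t * (a * b * c) = a * b * c * t → n * t = t * n}
  have hZ : Z ⊆ {a, b, c, a', b', c'} := by
    rintro n ⟨hn, hnw, hnc⟩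
    by_contra hne
    simp only [Set.mem_insert_iff, Set.mem_singleton_iff, not_or] at hne
    obtain ⟨n1, n2, n3, n4, n5, n6⟩ := hne
    obtain ⟨k1, k2, k3⟩ := comm_tri bas ht hn hnw
    obtain ⟨t, htT, t1, t2, t3, t4⟩ := exists_ncomm bas H hn k1 k2 k3 n1 n2 n3 n4 n5 n6
    exact t4 (hnc t htT (comm_w bas ht t1 t2 t3)).symm
  have haZ : a ∈ Z := by
    refine ⟨ht.mx, comm_w bas ht rfl ht.cxy ht.cxw, fun t htT h => ?_⟩
    exact ((comm_tri bas ht htT h).1).symm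
  have hxinv : x⁻¹ * (a * b * c) = a * b * c * x⁻¹ := (Commute.inv_left hxd : Commute x⁻¹ (a * b * c))
  have hconj : ∀ g : Spor.Fi22, g * (a * b * c) = a * b * c * g → ∀ n : Spor.Fi22, n * (a * b * c) = a * b * c * n →
      g * n * g⁻¹ * (a * b * c) = a * b * c * (g * n * g⁻¹) := by
    intro g hg n hn
    have hg' : g⁻¹ * (a * b * c) = a * b * c * g⁻¹ := (Commute.inv_left hg : Commute g⁻¹ (a * b * c))
    calc g * n * g⁻¹ * (a * b * c) = g * n * (g⁻¹ * (a * b * c)) := by group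
      _ = g * (n * (a * b * c)) * g⁻¹ := by rw [hg']; group
      _ = g * (a * b * c) * n * g⁻¹ := by rw [hn]; group
      _ = a * b * c * (g * n * g⁻¹) := by rw [hg]; group
  refine fi22_one ht.mx hx (comm_of_small (p := 13) (by norm_num) (Z := Z) (Set.toFinite _) hx ?_ ?_ a haZ)
  · rintro n ⟨hn, hnw, hnc⟩
    refine ⟨bas.conjT x hn, hconj x hxd n hnw, fun t htT htw => ?_⟩
    have k1 : x⁻¹ * t * x⁻¹⁻¹ ∈ T := bas.conjT x⁻¹ htT
    have k2 := hconj x⁻¹ hxinv t htw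
    have k3 := hnc _ k1 k2
    calc x * n * x⁻¹ * t = x * (n * (x⁻¹ * t * x⁻¹⁻¹)) * x⁻¹ := by group
      _ = x * ((x⁻¹ * t * x⁻¹⁻¹) * n) * x⁻¹ := by rw [k3]
      _ = t * (x * n * x⁻¹) := by group
  · refine lt_of_le_of_lt (Set.ncard_le_ncard hZ (Set.toFinite _)) ?_
    refine lt_of_le_of_lt (Set.ncard_insert_le _ _) ?_
    have h1 := Set.ncard_insert_le b ({c, a', b', c'} : Set Spor.Fi22)
    have h2 := Set.ncard_insert_le c ({a', b', c'} : Set Spor.Fi22)
    have h3 := Set.ncard_insert_le a' ({b', c'} : Set Spor.Fi22)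
    have h4 := Set.ncard_insert_le b' ({c'} : Set Spor.Fi22)
    rw [Set.ncard_singleton] at h4
    omega

theorem na_fi22_model : NA 13 Spor.Fi22 := by
  intro x t hx ht hxt
  rcases inv_cases (sq_of_two ht) (ne_one_of_two ht) with h | ⟨a, ha, b, hb, hab, cab, rfl⟩ | ⟨a, b, c, h, rfl⟩
  · exact fi22_one h hx hxt
  · exact fi22_two ha hb hab cab hx hxt
  · exact fi22_three h hx hxt

theorem na_fi22 {G : Type*} [Group G] (h : Spor.IsoFi22 G) : NA 13 G :=
  h.elim fun e => na_fi22_model.of_equiv e.symm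

end Cfsg.Agent.H393.Iso
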