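import Cfsg.Agent.H393.Iso.Base
import Cfsg.Agent.Lib.Cores
import Cfsg.Prelude.Def_CaseTheorems

/-!
# Groups of characteristic 2 type: a prime not adjacent to 2 (helper393)
-/

set_option autoImplicit false

namespace Cfsg.Agent.H393.Iso

open Subgroup Cfsg

variable {X : Type*} [Group X] {p : ℕ}

theorem NA.of_charTwo [Finite X] (h : IsCharacteristicTwoType X) (hp : p.Prime) (hp2 : p ≠ 2) {d : ℕ}
    (hd : okd p 2 d = true) (hX : ¬ 2 ^ (d + 1) ∣ Nat.card X) : NA p X := by
  intro x t hx ht hxt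
  have htt : t ^ 2 = 1 := by rw [← ht, pow_orderOf_eq_one]
  let T : Subgroup X := zpowers t
  have hTp : IsPGroup 2 T := by
    rw [IsPGroup.iff_card]
    exact ⟨1, by rw [Nat.card_zpowers, ht, pow_one]⟩
  have hT : T ≠ ⊥ := by
    intro hT
    have : t ∈ T := mem_zpowers t
    rw [hT, mem_bot] at this
    exact ne_one_of_two ht this
  have hN := h.2 T hTp hT
  have hxT : x ∈ normalizer (T : Set X) := by
    rw [mem_normalizer_iff]
    intro y
    have key : ∀ (g y : X), g * t = t * g → y ∈ T → g * y * g⁻¹ ∈ T := by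
      intro g y hg hy
      obtain ⟨n, rfl⟩ := mem_zpowers_iff.1 hy
      have h1 : Commute g (t ^ n) := (show Commute g t from hg).zpow_right n
      rw [h1.eq, mul_inv_cancel_right]
      exact hy
    refine ⟨key x y hxt, fun hy => ?_⟩
    have h2 : x⁻¹ * t = t * x⁻¹ := (show Commute x t from hxt).inv_left
    have := key x⁻¹ _ h2 hy
    have e : x⁻¹ * (x * y * x⁻¹) * x⁻¹⁻¹ = y := by group
    rwa [e] at this
  let N : Subgroup X := normalizer (T : Set X)
  let x' : N := ⟨x, hxT⟩
  have hx' : orderOf x' = p := by rw [← hx, ← orderOf_coe]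
  have hnorm : (pCore 2 N).Normal := Lib.Cores.pCore_normal 2
  have hp2g : IsPGroup 2 (pCore 2 N) := Lib.Cores.pCore_isPGroup 2
  obtain ⟨k, hk⟩ := IsPGroup.iff_card.1 hp2g
  have hkd : k ≤ d := by
    by_contra hc
    push Not at hc
    apply hX
    refine ((pow_dvd_pow 2 hc).trans (hk ▸ card_subgroup_dvd_card (pCore 2 N))).trans ?_
    exact card_subgroup_dvd_card N
  have h1 := comm_of_normalizes hp Nat.prime_two hp2.symm (okd_spec hd) hk hx'
    (fun y hy => hnorm.conj_mem y hy x') (Or.inl hkd)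
  have h2 : x' ∈ pCore 2 N := hN (by
    rw [mem_centralizer_iff]
    intro y hy
    exact (h1 y hy).symm)
  have h3 : p ∣ 2 ^ k := by
    rw [← hk, ← hx']
    have := orderOf_dvd_natCard (⟨x', h2⟩ : pCore 2 N)
    rwa [← orderOf_coe] at this
  exact hp2 ((Nat.prime_dvd_prime_iff_eq hp Nat.prime_two).1 (hp.dvd_of_dvd_pow h3))

end Cfsg.Agent.H393.Iso
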